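import Groth.Agent.NormTensor.Main
import Groth.Agent.NormalSmooth.Basic
import Groth.Agent.RegLocus.GeomBaseChange
import Groth.Agent.RegLocus.FieldExt
import Mathlib

/-!
Fibre hypotheses for normal homomorphisms and for geometrically normal algebras over a field.
-/

set_option autoImplicit false
set_option linter.style.haveILetI false

universe u

open TensorProduct

namespace Groth.Agent.NormTensor

theorem geomReduced_of_geomNormal (k S : Type u) [Field k] [CommRing S] [Algebra k S]
    (h : EGA4.IsGeomNormal k S) : Algebra.IsGeometricallyReduced k S := by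
  classical
  rw [Algebra.isGeometricallyReduced_field_iff]
  let Ω := AlgebraicClosure k
  refine ⟨fun x hx => ?_⟩
  obtain ⟨L, hL, hLr⟩ := RegLocus.exists_fg_subfield k S Ω {x}
  obtain ⟨s, hs⟩ := IntermediateField.essFiniteType_iff.1 hL
  have hfin : Module.Finite k L := by
    rw [← hs]
    exact IntermediateField.finiteDimensional_adjoin fun y _ => Algebra.IsIntegral.isIntegral y
  have hinj : Function.Injective (Algebra.TensorProduct.map L.val (AlgHom.id k S)) :=
    Module.Flat.rTensor_preserves_injective_linearMap (R := k) (M := S) L.val.toLinearMap L.val.injective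
  obtain ⟨y, hy⟩ := hLr x (Finset.mem_singleton_self x)
  haveI := RegLocus.isReduced_of_isNormalRing _ (h L hfin)
  rw [← hy] at hx ⊢
  have hy0 : y = 0 :=
    ((IsNilpotent.map_iff (f := Algebra.TensorProduct.map L.val (AlgHom.id k S)) hinj).1 hx).eq_zero
  rw [hy0]
  exact map_zero _

/-- fields over `A` see reduced fibres of a normal homomorphism -/
theorem isReduced_field_tensor (A A' : Type u) [CommRing A] [CommRing A'] [Algebra A A']
    (h : EGA4.IsNormalHom A A') (F : Type u) [Field F] [Algebra A F] : IsReduced (F ⊗[A] A') := by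
  let p := RingHom.ker (algebraMap A F)
  haveI : p.IsPrime := RingHom.ker_isPrime _
  have hu : p.primeCompl ≤ (IsUnit.submonoid F).comap (algebraMap A F) := fun x hx => isUnit_iff_ne_zero.2 hx
  letI : Algebra p.ResidueField F := (Ideal.ResidueField.lift p (algebraMap A F) le_rfl hu).toAlgebra
  haveI : IsScalarTower A p.ResidueField F :=
    IsScalarTower.of_algebraMap_eq fun x => (Ideal.ResidueField.lift_algebraMap _ _ le_rfl hu x).symm
  haveI := geomReduced_of_geomNormal p.ResidueField (p.Fiber A') (h.2 p)
  haveI := RegLocus.isReduced_tensor_field p.ResidueField (p.Fiber A') F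
  exact isReduced_of_injective (Algebra.TensorProduct.cancelBaseChange A p.ResidueField p.ResidueField F A').symm.toAlgHom
    (Algebra.TensorProduct.cancelBaseChange A p.ResidueField p.ResidueField F A').symm.injective

/-- a field extension generated by finitely many elements is essentially of finite type -/
theorem essFiniteType_of_gen (k K : Type u) [Field k] [Field K] [Algebra k K] (gen : Finset K)
    (h : Subfield.closure (Set.range (algebraMap k K) ∪ gen) = ⊤) : Algebra.EssFiniteType k K := by
  apply IntermediateField.fg_top_iff.1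
  refine ⟨gen, eq_top_iff.2 fun x _ => ?_⟩
  have hle : Subfield.closure (Set.range (algebraMap k K) ∪ gen) ≤
      (IntermediateField.adjoin k (gen : Set K)).toSubfield := by
    rw [Subfield.closure_le]
    rintro z (⟨a, rfl⟩ | hz)
    · exact (IntermediateField.adjoin k (gen : Set K)).algebraMap_mem a
    · exact IntermediateField.subset_adjoin k _ hz
  exact hle (h.symm ▸ trivial)

/-- generic fibres of a normal homomorphism after a finitely generated field extension -/
theorem normal_field_tensor (A A' : Type u) [CommRing A] [CommRing A'] [Algebra A A'] [IsNoetherianRing A']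
    (h : EGA4.IsNormalHom A A') (K : Type u) [Field K] [Algebra A K]
    (hgen : ∃ gen : Finset K, Subfield.closure (Set.range (algebraMap A K) ∪ gen) = ⊤) :
    EGA4.IsNormalRing (K ⊗[A] A') ∧ (minimalPrimes (K ⊗[A] A')).Finite := by
  let p := RingHom.ker (algebraMap A K)
  haveI : p.IsPrime := RingHom.ker_isPrime _
  have hu : p.primeCompl ≤ (IsUnit.submonoid K).comap (algebraMap A K) := fun x hx => isUnit_iff_ne_zero.2 hx
  letI : Algebra p.ResidueField K := (Ideal.ResidueField.lift p (algebraMap A K) le_rfl hu).toAlgebra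
  haveI : IsScalarTower A p.ResidueField K :=
    IsScalarTower.of_algebraMap_eq fun x => (Ideal.ResidueField.lift_algebraMap _ _ le_rfl hu x).symm
  obtain ⟨gen, hgen⟩ := hgen
  haveI : Algebra.EssFiniteType p.ResidueField K := essFiniteType_of_gen _ K gen (by
    rw [eq_top_iff, ← hgen, Subfield.closure_le]
    rintro z (⟨a, rfl⟩ | hz)
    · exact Subfield.subset_closure (Or.inl ⟨algebraMap A p.ResidueField a, (IsScalarTower.algebraMap_apply _ _ _ a).symm⟩)
    · exact Subfield.subset_closure (Or.inr hz))
  haveI := RegLocus.isNoetherianRing_fiber A A' p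
  haveI : IsNoetherianRing (p.Fiber A' ⊗[p.ResidueField] K) :=
    Algebra.EssFiniteType.isNoetherianRing (p.Fiber A') (p.Fiber A' ⊗[p.ResidueField] K)
  haveI : IsNoetherianRing (K ⊗[p.ResidueField] p.Fiber A') :=
    isNoetherianRing_of_ringEquiv _ (Algebra.TensorProduct.comm p.ResidueField (p.Fiber A') K).toRingEquiv
  let e : K ⊗[p.ResidueField] p.Fiber A' ≃+* K ⊗[A] A' :=
    (Algebra.TensorProduct.cancelBaseChange A p.ResidueField p.ResidueField K A').toRingEquiv
  haveI : IsNoetherianRing (K ⊗[A] A') := isNoetherianRing_of_ringEquiv _ e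
  exact ⟨RegLocus.isNormalRing_of_equiv e (RegLocus.isNormalRing_any _ _ (h.2 p) K), minimalPrimes.finite_of_isNoetherianRing _⟩

/-- localising the left factor preserves normality -/
theorem isNormalRing_localized_tensor (k T K S : Type u) [CommRing k] [CommRing T] [CommRing K] [CommRing S]
    [Algebra k T] [Algebra k K] [Algebra T K] [IsScalarTower k T K] [Algebra k S] (M : Submonoid T)
    [IsLocalization M K] (hT : EGA4.IsNormalRing (T ⊗[k] S)) : EGA4.IsNormalRing (K ⊗[k] S) := by
  letI : Algebra (T ⊗[k] S) (K ⊗[T] (T ⊗[k] S)) := Algebra.TensorProduct.rightAlgebra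
  haveI : IsLocalization (Algebra.algebraMapSubmonoid (T ⊗[k] S) M) (K ⊗[T] (T ⊗[k] S)) := inferInstance
  exact RegLocus.isNormalRing_of_equiv (Algebra.TensorProduct.cancelBaseChange k T T K S).toRingEquiv
    (RegLocus.isNormalRing_of_localization (T ⊗[k] S) (Algebra.algebraMapSubmonoid (T ⊗[k] S) M)
      (K ⊗[T] (T ⊗[k] S)) hT)

/-- a normal ring stays normal after a separable finitely generated field extension -/
theorem isNormalRing_sep_tensor (k S K : Type u) [Field k] [CommRing S] [Algebra k S] [Field K] [Algebra k K]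
    [Algebra.IsGeometricallyReduced k K] [Algebra.EssFiniteType k K] (h : EGA4.IsNormalRing S) :
    EGA4.IsNormalRing (S ⊗[k] K) := by
  obtain ⟨F, hF⟩ := IntermediateField.fg_top k K
  let S0 := Algebra.adjoin k (F : Set K)
  have : IsFractionRing S0 K := by
    refine IsFractionRing.of_field _ _ fun z => ?_
    obtain ⟨r, hr, s, hs, hz⟩ := IntermediateField.mem_adjoin_iff_div.1
      (show z ∈ IntermediateField.adjoin k (F : Set K) from hF ▸ IntermediateField.mem_top)
    exact ⟨⟨r, hr⟩, ⟨s, hs⟩, hz⟩
  have : Algebra.FormallySmooth k K := PBasis.formallySmooth_of_isGeometricallyReduced'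
  have : Algebra.FiniteType k S0 :=
    (Subalgebra.fg_iff_finiteType _).1 (Subalgebra.fg_def.2 ⟨F, F.finite_toSet, rfl⟩)
  have : Algebra.FinitePresentation k S0 := Algebra.FinitePresentation.of_finiteType.1 inferInstance
  let η : PrimeSpectrum S0 := ⟨⊥, Ideal.isPrime_bot⟩
  have hη : η ∈ Algebra.smoothLocus k S0 := by
    show Algebra.FormallySmooth k (Localization.AtPrime η.asIdeal)
    have : IsLocalization η.asIdeal.primeCompl K := by
      show IsLocalization (⊥ : Ideal S0).primeCompl K
      rw [show (⊥ : Ideal S0).primeCompl = nonZeroDivisors S0 by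
        ext x; simp [Ideal.primeCompl, mem_nonZeroDivisors_iff_ne_zero]]
      infer_instance
    exact Algebra.FormallySmooth.of_equiv
      ((IsLocalization.algEquiv η.asIdeal.primeCompl K (Localization.AtPrime η.asIdeal)).restrictScalars k)
  obtain ⟨_, ⟨s, rfl⟩, hxs, hsU⟩ :=
    PrimeSpectrum.isTopologicalBasis_basic_opens.isOpen_iff.1 Algebra.isOpen_smoothLocus η hη
  let T := Localization.Away s
  have : Algebra.Smooth k T := Algebra.basicOpen_subset_smoothLocus_iff_smooth.1 hsU
  have hs0 : (algebraMap S0 K) s ≠ 0 := (map_ne_zero_iff _ (IsFractionRing.injective S0 K)).2 fun h =>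
    hxs (h ▸ zero_mem _)
  have hunit : ∀ y : Submonoid.powers s, IsUnit (algebraMap S0 K y) := fun y => by
    obtain ⟨n, hn⟩ := y.2
    rw [← hn, map_pow]; exact (isUnit_iff_ne_zero.2 hs0).pow _
  letI : Algebra T K := (IsLocalization.lift (S := T) hunit).toAlgebra
  have : IsScalarTower S0 T K := IsScalarTower.of_algebraMap_eq fun x => (IsLocalization.lift_eq (S := T) hunit x).symm
  have : IsFractionRing T K := IsFractionRing.isFractionRing_of_isDomain_of_isLocalization (Submonoid.powers s) T K
  have : IsScalarTower k T K := IsScalarTower.of_algebraMap_eq fun x => by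
    rw [IsScalarTower.algebraMap_apply k S0 T, ← IsScalarTower.algebraMap_apply S0 T K]; rfl
  have hT : EGA4.IsNormalRing (T ⊗[k] S) :=
    RegLocus.isNormalRing_of_equiv (Algebra.TensorProduct.comm k S T).toRingEquiv
      (NormalSmooth.isNormalRing_of_smooth S (S ⊗[k] T) h)
  exact RegLocus.isNormalRing_of_equiv (Algebra.TensorProduct.comm k K S).toRingEquiv
    (isNormalRing_localized_tensor k T K S (nonZeroDivisors T) hT)

/-- geometrically normal algebras stay normal after finitely generated field extensions -/
theorem isNormalRing_geomNormal_ext (k S : Type u) [Field k] [CommRing S] [Algebra k S] (h : EGA4.IsGeomNormal k S)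
    (K : Type u) [Field K] [Algebra k K] [Algebra.EssFiniteType k K] : EGA4.IsNormalRing (K ⊗[k] S) := by
  obtain ⟨k1, i1, i2, K1, j1, j2, j3, j4, j5, j6, hfin, -, hfinK, hgr, hess⟩ := RegLocus.exists_separabilizing k K
  haveI : Algebra.EssFiniteType k1 K1 := Algebra.EssFiniteType.of_comp k k1 K1
  let e' : (k1 ⊗[k] S) ⊗[k1] K1 ≃+* K1 ⊗[k] S := (Algebra.TensorProduct.comm k1 (k1 ⊗[k] S) K1).toRingEquiv.trans
    (Algebra.TensorProduct.cancelBaseChange k k1 k1 K1 S).toRingEquiv
  have hP1 : EGA4.IsNormalRing (K1 ⊗[k] S) :=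
    RegLocus.isNormalRing_of_equiv e' (isNormalRing_sep_tensor k1 (k1 ⊗[k] S) K1 (h k1 hfin))
  letI := ((Algebra.TensorProduct.map (IsScalarTower.toAlgHom k K K1) (AlgHom.id k S)).toRingHom).toAlgebra
  have : Module.FaithfullyFlat (K ⊗[k] S) (K1 ⊗[k] S) := RegLocus.faithfullyFlat_map_tensor k S K K1
  exact NormalSmooth.isNormalRing_of_faithfullyFlat (K ⊗[k] S) (K1 ⊗[k] S) hP1

/-- finitely many minimal primes for a domain base -/
theorem finite_minimalPrimes_tensor (k A K : Type u) [Field k] [CommRing A] [IsDomain A] [Algebra k A] [Field K]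
    [Algebra k K] [Algebra.EssFiniteType k K] : (minimalPrimes (K ⊗[k] A)).Finite := by
  let L := FractionRing A
  let Rr := A ⊗[k] K
  suffices hfin : (minimalPrimes Rr).Finite by
    let e := (Algebra.TensorProduct.comm k K A).toRingEquiv
    haveI := hfin.to_subtype
    refine (hfin.image (Ideal.comap e.toRingHom)).subset fun P hP => ?_
    have := Ideal.comap_minimalPrimes_eq_of_surjective (f := e.toRingHom) e.surjective (⊥ : Ideal Rr)
    rw [show (⊥ : Ideal Rr).comap e.toRingHom = ⊥ from
      eq_bot_iff.2 fun x hx => e.injective (by simpa using hx)] at this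
    exact this ▸ hP
  letI : Algebra Rr (L ⊗[A] Rr) := Algebra.TensorProduct.rightAlgebra
  haveI : IsLocalization (Algebra.algebraMapSubmonoid Rr (nonZeroDivisors A)) (L ⊗[A] Rr) := inferInstance
  haveI : IsNoetherianRing (L ⊗[A] Rr) := by
    haveI : IsNoetherianRing (L ⊗[k] K) := Algebra.EssFiniteType.isNoetherianRing L _
    exact isNoetherianRing_of_ringEquiv _ (Algebra.TensorProduct.cancelBaseChange k A A L K).symm.toRingEquiv
  refine ((minimalPrimes.finite_of_isNoetherianRing (L ⊗[A] Rr)).image
    (Ideal.comap (algebraMap Rr (L ⊗[A] Rr)))).subset fun P hP => ?_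
  haveI : P.IsPrime := hP.1.1
  have hdisj : Disjoint (Algebra.algebraMapSubmonoid Rr (nonZeroDivisors A) : Set Rr) P := by
    rw [Set.disjoint_left]
    rintro _ ⟨a, ha, rfl⟩ haP
    have ha0 : (a : A) ≠ 0 := nonZeroDivisors.ne_zero ha
    have hreg : algebraMap A Rr a ∈ nonZeroDivisors Rr := by
      rw [mem_nonZeroDivisors_iff_right]
      intro z hz
      have hinjm : Function.Injective ((LinearMap.mulLeft k a).rTensor K) :=
        Module.Flat.rTensor_preserves_injective_linearMap (M := K) _ fun x y hxy => mul_left_cancel₀ ha0 hxy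
      apply hinjm
      rw [map_zero]
      have : ∀ w : Rr, (LinearMap.mulLeft k a).rTensor K w = w * algebraMap A Rr a := fun w => by
        induction w using TensorProduct.induction_on with
        | zero => simp
        | tmul x y => simp [Rr, mul_comm]
        | add x y hx hy => rw [map_add, hx, hy, add_mul]
      exact (this z).trans hz
    exact Set.disjoint_left.1 (Ideal.disjoint_nonZeroDivisors_of_mem_minimalPrimes hP) haP hreg
  haveI := IsLocalization.isPrime_of_isPrime_disjoint (Algebra.algebraMapSubmonoid Rr (nonZeroDivisors A))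
    (L ⊗[A] Rr) P inferInstance hdisj
  have hc := IsLocalization.comap_map_of_isPrime_disjoint (Algebra.algebraMapSubmonoid Rr (nonZeroDivisors A))
    (L ⊗[A] Rr) (I := P) inferInstance hdisj
  refine ⟨P.map (algebraMap Rr _), ?_, hc⟩
  have h := IsLocalization.minimalPrimes_map (Algebra.algebraMapSubmonoid Rr (nonZeroDivisors A))
    (A := L ⊗[A] Rr) (⊥ : Ideal Rr)
  rw [Ideal.map_bot] at h
  show P.map (algebraMap Rr _) ∈ (⊥ : Ideal (L ⊗[A] Rr)).minimalPrimes
  rw [h, Set.mem_preimage, hc]
  exact hP

end Groth.Agent.NormTensor
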