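import Groth.Agent.DVRDom.Basic
import Mathlib

/-!
Integral closure commutes with flat base change along reduced fibres.

`R` Noetherian, `K` a field over `R`, `C` the integral closure in `K` of a finitely generated
subalgebra with fraction field `K`, `M` a flat `R`-algebra such that `F ⊗ M` is reduced for every
field `F` over `R`: then `C ⊗ M` is integrally closed in `K ⊗ M`.
-/

set_option autoImplicit false

universe u

open TensorProduct Polynomial

namespace Groth.Agent.NormTensor

/-- the discrete valuation step -/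
theorem dvr_step {S T : Type u} [CommRing S] [CommRing T] (f : S →+* T) (hf : Function.Injective f) (s : S)
    (hs : IsUnit (f s)) (hred : IsReduced (S ⧸ Ideal.span {s})) (x : T) (hx : f.IsIntegralElem x) :
    ∀ (n : ℕ) (y : S), f y = f s ^ n * x → ∃ z, f z = x := by
  intro n
  induction n with
  | zero => exact fun y hy => ⟨y, by simpa using hy⟩
  | succ n ih =>
    intro y hy
    obtain ⟨p, hp, hpx⟩ := hx
    have h0 : (p.scaleRoots (s ^ (n + 1))).eval y = 0 := hf (by
      rw [map_zero, ← Polynomial.eval₂_at_apply f y, hy, ← map_pow]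
      exact Polynomial.scaleRoots_eval₂_eq_zero f hpx)
    have hs0 : Ideal.Quotient.mk (Ideal.span {s}) s = 0 :=
      Ideal.Quotient.eq_zero_iff_mem.2 (Ideal.mem_span_singleton_self s)
    have h1 : Ideal.Quotient.mk (Ideal.span {s}) y ^ p.natDegree = 0 := by
      have := congrArg (Ideal.Quotient.mk (Ideal.span {s})) h0
      rw [Polynomial.eval_eq_sum_range, Polynomial.natDegree_scaleRoots, map_sum, map_zero,
        Finset.sum_range_succ, Finset.sum_eq_zero, zero_add] at this
      · simpa [Polynomial.coeff_scaleRoots, hp.coeff_natDegree] using this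
      · intro i hi
        have hi' := Finset.mem_range.1 hi
        simp [Polynomial.coeff_scaleRoots, hs0, zero_pow (Nat.sub_pos_of_lt hi').ne']
    have h2 : Ideal.Quotient.mk (Ideal.span {s}) y = 0 := IsNilpotent.eq_zero ⟨_, h1⟩
    obtain ⟨y', rfl⟩ := Ideal.mem_span_singleton'.1 (Ideal.Quotient.eq_zero_iff_mem.1 h2)
    refine ih y' (hs.mul_right_cancel ?_)
    rw [← map_mul, hy]
    ring

theorem isArtinian_of_isTorsionBySet {S N : Type u} [CommRing S] [AddCommGroup N] [Module S N] [Module.Finite S N]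
    (m : Ideal S) [m.IsMaximal] (h : Module.IsTorsionBySet S N m) : IsArtinian S N := by
  obtain ⟨n, g, hg⟩ := Module.Finite.exists_fin (R := S) (M := N)
  haveI : IsSimpleModule S (S ⧸ m) :=
    (isSimpleModule_iff_isCoatom (R := S) (m := m)).2 (Ideal.isMaximal_def.1 inferInstance)
  let φ : Fin n → (S ⧸ m) →ₗ[S] N := fun i => Submodule.liftQ m (LinearMap.toSpanSingleton S N (g i))
    fun a ha => by simpa using @h (g i) ⟨a, ha⟩
  refine isArtinian_of_surjective (Fin n → S ⧸ m) (LinearMap.lsum S _ S φ) ?_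
  rw [← LinearMap.range_eq_top, ← top_le_iff, ← hg, Submodule.span_le]
  rintro _ ⟨i, rfl⟩
  refine ⟨Pi.single i (Submodule.Quotient.mk 1), ?_⟩
  simp [φ, LinearMap.lsum_apply, Pi.single_apply, apply_ite]
  exact (Submodule.liftQ_apply m _ (1 : S)).trans (one_smul _ _)

section
variable (R : Type u) [CommRing R] [IsNoetherianRing R] (K : Type u) [Field K] [Algebra R K]

/-- A discrete valuation ring separating a `p`-saturated element from an integrally closed subalgebra. -/
theorem exists_dvr (gen G : Finset K) (hgen : Subfield.closure (Set.range (algebraMap R K) ∪ gen) = ⊤)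
    (C : Subalgebra R K) [IsIntegrallyClosedIn C K] (hGC : (G : Set K) ⊆ C) (p : Ideal R) [p.IsPrime]
    (q : K) (hq : ∀ s ∉ p, s • q ∉ C) :
    ∃ V : ValuationSubring K, IsDiscreteValuationRing V ∧ (∀ a : R, algebraMap R K a ∈ V) ∧
      (G : Set K) ⊆ (V : Set K) ∧ (∀ s ∉ p, (algebraMap R K s)⁻¹ ∈ V) ∧ q ∉ V := by
  classical
  have hne : ∀ s : R, s ∉ p → algebraMap R K s ≠ 0 := fun s hs h0 =>
    hq s hs (by rw [Algebra.smul_def, h0, zero_mul]; exact zero_mem C)
  let E : Subring K :=
    { carrier := {z | ∃ s ∉ p, s • z ∈ C}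
      mul_mem' := by
        rintro a b ⟨s, hs, ha⟩ ⟨t, ht, hb⟩
        exact ⟨s * t, p.primeCompl.mul_mem hs ht, by
          rw [show (s * t) • (a * b) = (s • a) * (t • b) by rw [smul_mul_smul_comm]]; exact mul_mem ha hb⟩
      one_mem' := ⟨1, p.primeCompl.one_mem, by simp⟩
      add_mem' := by
        rintro a b ⟨s, hs, ha⟩ ⟨t, ht, hb⟩
        exact ⟨s * t, p.primeCompl.mul_mem hs ht, by
          rw [smul_add, mul_comm s t, mul_smul, mul_comm t s, mul_smul]
          exact add_mem (C.smul_mem ha t) (C.smul_mem hb s)⟩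
      zero_mem' := ⟨1, p.primeCompl.one_mem, by simp⟩
      neg_mem' := by
        rintro a ⟨s, hs, ha⟩
        exact ⟨s, hs, by rw [smul_neg]; exact neg_mem ha⟩ }
  have hCE : ∀ z : K, z ∈ C → z ∈ E := fun z hz => ⟨1, p.primeCompl.one_mem, by rwa [one_smul]⟩
  haveI : IsIntegrallyClosedIn E K := by
    refine isIntegrallyClosedIn_iff.2 ⟨Subtype.val_injective, fun {z} hz => ?_⟩
    obtain ⟨P, hP, hPz⟩ := hz
    choose s hs hsC using fun i => (P.coeff i).2
    let S := ∏ i ∈ P.support, s i
    have hS : S ∉ p := p.primeCompl.prod_mem fun i _ => hs i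
    refine ⟨⟨z, S, hS, ?_⟩, rfl⟩
    let r : K := algebraMap R K S
    have hlift : (P.map E.subtype).scaleRoots r ∈ Polynomial.lifts (algebraMap C K) := by
      rw [Polynomial.lifts_iff_coeff_lifts]
      intro i
      rw [Polynomial.coeff_scaleRoots, Polynomial.natDegree_map_eq_of_injective Subtype.val_injective,
        Polynomial.coeff_map]
      by_cases hi : i ∈ P.support
      · rcases eq_or_ne i P.natDegree with rfl | hne'
        · exact ⟨1, by rw [map_one, hP.coeff_natDegree, map_one, Nat.sub_self, pow_zero, one_mul]⟩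
        · obtain ⟨j, hj⟩ : ∃ j, P.natDegree - i = j + 1 :=
            ⟨P.natDegree - i - 1, by have := Polynomial.le_natDegree_of_mem_supp i hi; omega⟩
          refine ⟨⟨_, mul_mem (pow_mem (algebraMap_mem C S) j) (C.smul_mem (hsC i) (∏ k ∈ P.support.erase i, s k))⟩, ?_⟩
          have hSi : S = s i * ∏ k ∈ P.support.erase i, s k := (Finset.mul_prod_erase _ _ hi).symm
          show algebraMap R K S ^ j * _ = _ * r ^ (P.natDegree - i)
          rw [hj, pow_succ, show r = algebraMap R K S from rfl, Algebra.smul_def, Algebra.smul_def, hSi, map_mul]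
          simp only [Subring.coe_subtype]
          ring
      · exact ⟨0, by simp [Polynomial.notMem_support_iff.1 hi]⟩
    obtain ⟨Q, hQ, -, hQm⟩ := Polynomial.lifts_and_natDegree_eq_and_monic hlift
      ((Polynomial.monic_scaleRoots_iff r).2 (hP.map _))
    have hint : IsIntegral C (r * z) := by
      refine ⟨Q, hQm, ?_⟩
      rw [← Polynomial.eval_map, hQ, ← Polynomial.eval₂_id]
      have h' : Polynomial.eval₂ (RingHom.id K) z (P.map E.subtype) = 0 := by
        rw [Polynomial.eval₂_id, Polynomial.eval_map]; exact hPz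
      exact Polynomial.scaleRoots_eval₂_eq_zero (RingHom.id K) (r := z) (s := r) h'
    obtain ⟨⟨c, hc⟩, hce⟩ := IsIntegrallyClosedIn.isIntegral_iff.1 hint
    rw [Algebra.smul_def]
    exact (show (c : K) = r * z from hce) ▸ hc
  have hqE : q ∉ E := fun ⟨s, hs, hsq⟩ => hq s hs hsq
  obtain ⟨W, hEW, hqW⟩ := E.exists_le_valuationSubring_of_isIntegrallyClosedIn hqE
  have hinvE : ∀ s ∉ p, (algebraMap R K s)⁻¹ ∈ E := fun s hs =>
    ⟨s, hs, by rw [Algebra.smul_def, mul_inv_cancel₀ (hne s hs)]; exact one_mem C⟩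
  let hunit : ∀ y : p.primeCompl, IsUnit (algebraMap R K y) := fun y => isUnit_iff_ne_zero.2 (hne y y.2)
  let Rp := Localization.AtPrime p
  letI : Algebra Rp K := (IsLocalization.lift (S := Rp) hunit).toAlgebra
  haveI : IsScalarTower R Rp K :=
    IsScalarTower.of_algebraMap_eq fun x => (IsLocalization.lift_eq (S := Rp) hunit x).symm
  let A := Algebra.adjoin Rp (G : Set K)
  haveI : Algebra.FiniteType Rp A := (Subalgebra.fg_iff_finiteType A).mp (Subalgebra.fg_adjoin_finset G)
  haveI : IsNoetherianRing A := Algebra.FiniteType.isNoetherianRing Rp A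
  have hRpE : ∀ a : Rp, algebraMap Rp K a ∈ E := fun a => by
    obtain ⟨a, s, rfl⟩ := IsLocalization.exists_mk'_eq p.primeCompl a
    refine ⟨s, s.2, ?_⟩
    rw [Algebra.smul_def, IsScalarTower.algebraMap_apply R Rp K, ← map_mul, IsLocalization.mk'_spec',
      ← IsScalarTower.algebraMap_apply]
    exact algebraMap_mem C a
  have hAW : ∀ a : A, algebraMap A K a ∈ W := by
    rintro ⟨a, ha⟩
    show a ∈ W
    induction ha using Algebra.adjoin_induction with
    | mem y hy => exact hEW (hCE y (hGC hy))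
    | algebraMap a => exact hEW (hRpE a)
    | add y z _ _ hy hz => exact W.add_mem _ _ hy hz
    | mul y z _ _ hy hz => exact W.mul_mem _ _ hy hz
  have hq0 : q ≠ 0 := fun h => hqE (h ▸ zero_mem E)
  have hqn : q⁻¹ ∈ W.nonunits := by
    rw [ValuationSubring.mem_nonunits_iff, map_inv₀]
    exact inv_lt_one_of_one_lt₀ (not_le.1 fun h => hqW ((W.valuation_le_one_iff q).1 h))
  obtain ⟨V, hV, hAV, hqV⟩ := DVRDom.exists_dvr_of_valuationSubring (A := A) (L := K) gen (by
      rw [eq_top_iff, ← hgen, Subfield.closure_le]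
      rintro z (⟨a, rfl⟩ | hz)
      · exact Subfield.subset_closure (Or.inl ⟨algebraMap Rp A (algebraMap R Rp a), by
          rw [← IsScalarTower.algebraMap_apply Rp A K, ← IsScalarTower.algebraMap_apply]⟩)
      · exact Subfield.subset_closure (Or.inr hz))
    W hAW {q⁻¹} (by simpa using hqn) ⟨q⁻¹, by simp, inv_ne_zero hq0⟩
  refine ⟨V, hV, fun a => ?_, fun z hz => hAV ⟨z, Algebra.subset_adjoin hz⟩, fun s hs => ?_, fun hqv => ?_⟩
  · have := hAV (algebraMap Rp A (algebraMap R Rp a))
    rwa [← IsScalarTower.algebraMap_apply Rp A K, ← IsScalarTower.algebraMap_apply] at this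
  · have := hAV (algebraMap Rp A (IsLocalization.mk' Rp (1 : R) (⟨s, hs⟩ : p.primeCompl)))
    rw [← IsScalarTower.algebraMap_apply Rp A K] at this
    convert! this using 1
    rw [eq_comm, ← mul_eq_one_iff_eq_inv₀ (hne s hs), IsScalarTower.algebraMap_apply R Rp K, ← map_mul,
      IsLocalization.mk'_spec, map_one, map_one]
  · have h1 : V.valuation q⁻¹ < 1 := hqV q⁻¹ (by simp)
    have h2 := (V.valuation_le_one_iff q).2 hqv
    have h3 : V.valuation q * V.valuation q⁻¹ = 1 := by rw [← map_mul, mul_inv_cancel₀ hq0, map_one]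
    exact (mul_lt_one_of_nonneg_of_lt_one_right h2 zero_le h1).ne h3

/-- A valuation subring containing `R`, as a subalgebra. -/
def valAlg (V : ValuationSubring K) (h : ∀ a : R, algebraMap R K a ∈ V) : Subalgebra R K :=
  { V.toSubring.toSubsemiring with algebraMap_mem' := h }

theorem le_valAlg (G : Finset K) (C : Subalgebra R K) (hC : ∀ z ∈ C, IsIntegral (Algebra.adjoin R (G : Set K)) z)
    (V : ValuationSubring K) (hR : ∀ a : R, algebraMap R K a ∈ V) (hG : (G : Set K) ⊆ (V : Set K)) :
    C ≤ valAlg R K V hR := by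
  intro z hz
  have hle : Algebra.adjoin R (G : Set K) ≤ valAlg R K V hR := Algebra.adjoin_le hG
  have hzV : IsIntegral V z := by
    obtain ⟨P, hP, hPz⟩ := hC z hz
    let j : Algebra.adjoin R (G : Set K) →+* V := (Subalgebra.inclusion hle).toRingHom
    refine ⟨P.map j, hP.map _, ?_⟩
    rw [Polynomial.eval₂_map]
    exact hPz
  obtain ⟨y, hy⟩ := IsIntegrallyClosedIn.isIntegral_iff.1 hzV
  exact hy ▸ y.2

/-- Finitely many discrete valuation rings cut out `C` on a finitely generated submodule. -/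
theorem exists_finite_dvr (gen G : Finset K) (hgen : Subfield.closure (Set.range (algebraMap R K) ∪ gen) = ⊤)
    (C : Subalgebra R K) [IsIntegrallyClosedIn C K] (hGC : (G : Set K) ⊆ C)
    (hC : ∀ z ∈ C, IsIntegral (Algebra.adjoin R (G : Set K)) z) (L : Submodule R K) (hL : L.FG) :
    ∃ F : Finset (ValuationSubring K),
      (∀ V ∈ F, IsDiscreteValuationRing V ∧ (∀ a : R, algebraMap R K a ∈ V) ∧ (G : Set K) ⊆ (V : Set K)) ∧
      ∀ q ∈ L, (∀ V ∈ F, q ∈ V) → q ∈ C := by
  classical
  let C' : Submodule R K := Subalgebra.toSubmodule C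
  haveI : Module.Finite R ↥(L.map C'.mkQ) := Module.Finite.iff_fg.2 (hL.map C'.mkQ)
  let Good : Finset (ValuationSubring K) → Prop := fun F =>
    ∀ V ∈ F, IsDiscreteValuationRing V ∧ (∀ a : R, algebraMap R K a ∈ V) ∧ (G : Set K) ⊆ (V : Set K)
  -- for one prime
  have key : ∀ p : Ideal R, p.IsPrime → ∃ F, Good F ∧ ∀ q ∈ L, (∀ V ∈ F, q ∈ V) →
      ¬(∀ r : R, r • q ∈ C ↔ r ∈ p) := by
    intro p hp
    let N : Submodule R (K ⧸ C') :=
      { carrier := {x | x ∈ L.map C'.mkQ ∧ ∀ r ∈ p, r • x = 0}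
        add_mem' := fun ha hb => ⟨add_mem ha.1 hb.1, fun r hr => by rw [smul_add, ha.2 r hr, hb.2 r hr, add_zero]⟩
        zero_mem' := ⟨zero_mem _, fun r _ => smul_zero r⟩
        smul_mem' := fun a x hx => ⟨Submodule.smul_mem _ a hx.1, fun r hr => by rw [smul_comm, hx.2 r hr, smul_zero]⟩ }
    haveI : Module.Finite R N := Module.Finite.of_injective
      (Submodule.inclusion (show N ≤ L.map C'.mkQ from fun x hx => hx.1)) (Submodule.inclusion_injective _)
    let Rp := Localization.AtPrime p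
    let LN := LocalizedModule p.primeCompl N
    let f := LocalizedModule.mkLinearMap p.primeCompl N
    haveI : Module.Finite Rp LN := Module.Finite.of_isLocalizedModule p.primeCompl f
    haveI : IsArtinian Rp LN := isArtinian_of_isTorsionBySet (N := LN) (IsLocalRing.maximalIdeal Rp) fun (x : LN) a => by
      obtain ⟨a, ha⟩ := a
      rw [← Localization.AtPrime.map_eq_maximalIdeal] at ha
      induction x using LocalizedModule.induction_on with
      | h n s =>
        show a • (LocalizedModule.mk n s : LN) = 0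
        refine Submodule.span_induction (p := fun (a : Rp) _ => a • (LocalizedModule.mk n s : LN) = 0) ?_ ?_ ?_ ?_ ha
        · rintro _ ⟨r, hr, rfl⟩
          rw [algebraMap_smul, LocalizedModule.smul'_mk,
            show r • n = 0 from Subtype.ext (n.2.2 r hr), LocalizedModule.zero_mk]
        · exact zero_smul _ _
        · intro a b _ _ ha hb; rw [add_smul, ha, hb, add_zero]
        · intro a b _ hb; rw [smul_eq_mul, mul_smul, hb, smul_zero]
    let W : Finset (ValuationSubring K) → Submodule R N := fun F =>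
      Submodule.span R {x : N | ∃ q ∈ L, C'.mkQ q = x.1 ∧ ∀ V ∈ F, q ∈ V}
    obtain ⟨_, ⟨F, hF, rfl⟩, hmin⟩ := IsArtinian.set_has_minimal
      {U : Submodule Rp LN | ∃ F, Good F ∧ (W F).localized' Rp p.primeCompl f = U}
      ⟨_, ∅, fun V hV => absurd hV (Finset.notMem_empty V), rfl⟩
    refine ⟨F, hF, fun q hqL hqF hqp => ?_⟩
    have hsat : ∀ s ∉ p, s • q ∉ C := fun s hs h => hs ((hqp s).1 h)
    obtain ⟨V, hV, hRV, hGV, hinv, hqV⟩ := exists_dvr R K gen G hgen C hGC p q hsat
    have hqN : C'.mkQ q ∈ N := ⟨Submodule.mem_map_of_mem hqL, fun r hr => by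
      rw [← map_smul]; exact (Submodule.Quotient.mk_eq_zero C').2 ((hqp r).2 hr)⟩
    have hgood : Good (insert V F) := fun U hU => by
      rcases Finset.mem_insert.1 hU with rfl | hU
      · exact ⟨hV, hRV, hGV⟩
      · exact hF U hU
    have hle : (W (insert V F)).localized' Rp p.primeCompl f ≤ (W F).localized' Rp p.primeCompl f := by
      have : W (insert V F) ≤ W F := Submodule.span_mono fun x ⟨q, hq1, hq2, hq3⟩ =>
        ⟨q, hq1, hq2, fun U hU => hq3 U (Finset.mem_insert_of_mem hU)⟩
      rintro x ⟨m, hm, s, rfl⟩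
      exact ⟨m, this hm, s, rfl⟩
    have heq : (W (insert V F)).localized' Rp p.primeCompl f = (W F).localized' Rp p.primeCompl f :=
      hle.eq_of_not_lt (hmin _ ⟨_, hgood, rfl⟩)
    have hmem : f ⟨_, hqN⟩ ∈ (W F).localized' Rp p.primeCompl f :=
      ⟨⟨_, hqN⟩, Submodule.subset_span ⟨q, hqL, rfl, hqF⟩, 1, by simp⟩
    rw [← heq] at hmem
    obtain ⟨m, hm, s, hs⟩ := hmem
    rw [IsLocalizedModule.mk'_eq_iff] at hs
    have hs' : f m = f ((s : R) • ⟨_, hqN⟩) := by rw [hs, map_smul]; rfl
    obtain ⟨t, ht⟩ := (IsLocalizedModule.eq_iff_exists p.primeCompl f).1 hs'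
    -- every element of `W (insert V F)` has all its representatives in `V`
    have hCV : C ≤ valAlg R K V hRV := le_valAlg R K G C hC V hRV hGV
    have hW : ∀ x ∈ W (insert V F), ∀ q' : K, C'.mkQ q' = x.1 → q' ∈ valAlg R K V hRV := by
      intro x hx
      refine Submodule.span_induction (p := fun (x : N) _ => ∀ q' : K, C'.mkQ q' = x.1 → q' ∈ valAlg R K V hRV)
        ?_ ?_ ?_ ?_ hx
      · rintro x ⟨q1, -, hq1, hq1V⟩ q' hq'
        have hd : q' - q1 ∈ C := (Submodule.Quotient.eq C').1 (hq'.trans hq1.symm)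
        have h1 : q1 ∈ valAlg R K V hRV := hq1V V (Finset.mem_insert_self _ _)
        simpa using add_mem (hCV hd) h1
      · intro q' hq'
        exact hCV ((Submodule.Quotient.mk_eq_zero C').1 hq')
      · intro a b _ _ iha ihb q' hq'
        obtain ⟨qa, hqa⟩ := C'.mkQ_surjective a.1
        have hb' : C'.mkQ (q' - qa) = b.1 := by rw [map_sub, hq', hqa]; simp
        simpa using add_mem (iha qa hqa) (ihb _ hb')
      · intro r a _ iha q' hq'
        obtain ⟨qa, hqa⟩ := C'.mkQ_surjective a.1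
        have hd : q' - r • qa ∈ C := (Submodule.Quotient.eq C').1 (by
          exact hq'.trans ((congrArg (r • ·) hqa.symm).trans (map_smul C'.mkQ r qa).symm))
        simpa using add_mem (hCV hd) ((valAlg R K V hRV).smul_mem (iha qa hqa) r)
    obtain ⟨qm, hqm⟩ := C'.mkQ_surjective m.1
    have hqmV := hW m hm qm hqm
    have h3 : C'.mkQ (((t : R) * s) • q) = C'.mkQ ((t : R) • qm) := by
      rw [map_smul, map_smul, hqm, mul_smul]
      exact (congrArg Subtype.val ht).symm
    have hd : ((t : R) * s) • q - (t : R) • qm ∈ C := (Submodule.Quotient.eq C').1 h3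
    have hus : (t : R) * s ∉ p := p.primeCompl.mul_mem t.2 s.2
    have hmemV : ((t : R) * s) • q ∈ valAlg R K V hRV := by
      simpa using add_mem (hCV hd) ((valAlg R K V hRV).smul_mem hqmV (t : R))
    refine hqV ?_
    have h5 := V.mul_mem _ _ (hinv _ hus) hmemV
    rwa [Algebra.smul_def, ← mul_assoc, inv_mul_cancel₀, one_mul] at h5
    intro h0
    exact hsat _ hus (by rw [Algebra.smul_def, h0, zero_mul]; exact zero_mem C)
  choose F hF hFp using key
  have hfin : (associatedPrimes R ↥(L.map C'.mkQ)).Finite := associatedPrimes.finite R _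
  refine ⟨hfin.toFinset.attach.biUnion fun p => F p.1 (hfin.mem_toFinset.1 p.2).isPrime, ?_, ?_⟩
  · intro V hV
    obtain ⟨p, -, hp⟩ := Finset.mem_biUnion.1 hV
    exact hF _ _ V hp
  intro q hqL hqF
  by_contra hqC
  let x : ↥(L.map C'.mkQ) := ⟨C'.mkQ q, Submodule.mem_map_of_mem hqL⟩
  let X : Submodule R ↥(L.map C'.mkQ) := Submodule.span R {x}
  haveI : Nontrivial X := ⟨⟨⟨x, Submodule.mem_span_singleton_self x⟩, 0, fun h =>
    hqC ((Submodule.Quotient.mk_eq_zero C').1 (congrArg Subtype.val (congrArg Subtype.val h)))⟩⟩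
  obtain ⟨p, hp⟩ := associatedPrimes.nonempty R X
  have hp' : p ∈ associatedPrimes R ↥(L.map C'.mkQ) :=
    associatedPrimes.subset_of_injective X.injective_subtype hp
  obtain ⟨hpp, y, hy⟩ := isAssociatedPrime_iff.1 hp
  obtain ⟨a, ha⟩ := Submodule.mem_span_singleton.1 y.2
  refine hFp p hpp (a • q) (L.smul_mem a hqL) (fun V hV => ?_) fun r => ?_
  · have hmem : V ∈ hfin.toFinset.attach.biUnion fun p => F p.1 (hfin.mem_toFinset.1 p.2).isPrime :=
      Finset.mem_biUnion.2 ⟨⟨p, hfin.mem_toFinset.2 hp'⟩, Finset.mem_attach _ _, hV⟩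
    rw [Algebra.smul_def]
    exact V.mul_mem _ _ ((hF p hpp V hV).2.1 a) (hqF V hmem)
  · rw [hy, Submodule.mem_colon_singleton, Submodule.mem_bot]
    have he : ((r • y : X) : ↥(L.map C'.mkQ)).1 = C'.mkQ (r • a • q) := by
      simp only [SetLike.val_smul, ← ha, map_smul]; rfl
    constructor
    · intro h
      apply Subtype.ext; apply Subtype.ext
      exact he.trans ((Submodule.Quotient.mk_eq_zero C').2 h)
    · intro h
      rw [h] at he
      exact (Submodule.Quotient.mk_eq_zero C').1 he.symm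

variable (M : Type u) [CommRing M] [Algebra R M]

/-- the map `C ⊗ M → K ⊗ M` -/
noncomputable def incl (C : Subalgebra R K) : C ⊗[R] M →ₐ[R] K ⊗[R] M :=
  Algebra.TensorProduct.map C.val (AlgHom.id R M)

theorem incl_injective [Module.Flat R M] (C : Subalgebra R K) : Function.Injective (incl R K M C) :=
  Module.Flat.rTensor_preserves_injective_linearMap (M := M) C.val.toLinearMap Subtype.val_injective

theorem isReduced_quot (V : Type u) [CommRing V] [Algebra R V] (π : V) [(Ideal.span {π}).IsMaximal]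
    (hred : ∀ (F : Type u) [Field F] [Algebra R F], IsReduced (F ⊗[R] M)) :
    IsReduced ((V ⊗[R] M) ⧸ Ideal.span {π ⊗ₜ[R] (1 : M)}) := by
  letI := Ideal.Quotient.field (Ideal.span {π})
  let φ : V ⊗[R] M →ₐ[R] (V ⧸ Ideal.span {π}) ⊗[R] M :=
    Algebra.TensorProduct.map (Ideal.Quotient.mkₐ R (Ideal.span {π})) (AlgHom.id R M)
  have hker : RingHom.ker φ = Ideal.span {π ⊗ₜ[R] (1 : M)} := by
    rw [Algebra.TensorProduct.rTensor_ker _ (Ideal.Quotient.mkₐ_surjective R _),
      show RingHom.ker (Ideal.Quotient.mkₐ R (Ideal.span {π})) = Ideal.span {π} from Ideal.mk_ker,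
      Ideal.map_span, Set.image_singleton]
    rfl
  haveI : IsReduced ((V ⧸ Ideal.span {π}) ⊗[R] M) := hred (V ⧸ Ideal.span {π})
  rw [← hker]
  exact isReduced_of_injective (RingHom.kerLift φ.toRingHom) (RingHom.kerLift_injective φ.toRingHom)

theorem exists_pow_mul_mem (V : ValuationSubring K) [IsDiscreteValuationRing V] (π : V) (hπ : Irreducible π)
    (hR : ∀ a : R, algebraMap R K a ∈ V) (x : K ⊗[R] M) :
    ∃ (n : ℕ) (y : ↥(valAlg R K V hR) ⊗[R] M),
      incl R K M (valAlg R K V hR) y = ((π : K) ⊗ₜ[R] (1 : M)) ^ n * x := by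
  let Va := valAlg R K V hR
  have up : ∀ (z : K ⊗[R] M) (k : ℕ) (y : Va ⊗[R] M), incl R K M Va y = z →
      incl R K M Va ((⟨(π : K), π.2⟩ : Va) ⊗ₜ[R] (1 : M) ^ k * y) = ((π : K) ⊗ₜ[R] (1 : M)) ^ k * z := by
    intro z k y hy
    rw [map_mul, hy, map_pow]
    congr 1
  induction x using TensorProduct.induction_on with
  | zero => exact ⟨0, 0, by simp⟩
  | tmul a m =>
    obtain ⟨v, s, hs⟩ := IsLocalization.exists_mk'_eq (nonZeroDivisors V) a
    obtain ⟨n, w, hw⟩ := IsDiscreteValuationRing.eq_unit_mul_pow_irreducible (nonZeroDivisors.ne_zero s.2) hπ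
    let vv : V := (↑w⁻¹ : V) * v
    refine ⟨n, (⟨(vv : K), vv.2⟩ : Va) ⊗ₜ m, ?_⟩
    simp only [incl, Algebra.TensorProduct.map_tmul, AlgHom.coe_id, id, Algebra.TensorProduct.tmul_pow,
      Algebra.TensorProduct.tmul_mul_tmul, one_pow, one_mul]
    congr 1
    show ((↑w⁻¹ : V) : K) * (v : K) = (π : K) ^ n * a
    have h1 : ((s : V) : K) * a = (v : K) := by
      rw [← hs]; exact IsLocalization.mk'_spec' K v s
    rw [← h1, hw]
    push_cast
    have hwu : ((↑w⁻¹ : V) : K) * ((↑w : V) : K) = 1 := by exact_mod_cast congrArg Subtype.val w.inv_mul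
    calc ((↑w⁻¹ : V) : K) * (((↑w : V) : K) * (π : K) ^ n * a)
        = (((↑w⁻¹ : V) : K) * ((↑w : V) : K)) * ((π : K) ^ n * a) := by ring
      _ = (π : K) ^ n * a := by rw [hwu, one_mul]
  | add a b ha hb =>
    obtain ⟨n, y, hy⟩ := ha
    obtain ⟨m, y', hy'⟩ := hb
    refine ⟨n + m, ((⟨(π : K), π.2⟩ : Va) ⊗ₜ[R] (1 : M)) ^ m * y + ((⟨(π : K), π.2⟩ : Va) ⊗ₜ[R] (1 : M)) ^ n * y', ?_⟩
    rw [map_add, up _ m y hy, up _ n y' hy', mul_add, pow_add]
    ring

/-- Main theorem: `C ⊗ M` is integrally closed in `K ⊗ M`. -/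
theorem incl_integrallyClosed [Module.Flat R M] (gen G : Finset K)
    (hgen : Subfield.closure (Set.range (algebraMap R K) ∪ gen) = ⊤)
    (C : Subalgebra R K) [IsIntegrallyClosedIn C K] (hGC : (G : Set K) ⊆ C)
    (hC : ∀ z ∈ C, IsIntegral (Algebra.adjoin R (G : Set K)) z)
    (hred : ∀ (F : Type u) [Field F] [Algebra R F], IsReduced (F ⊗[R] M))
    (x : K ⊗[R] M) (hx : (incl R K M C).toRingHom.IsIntegralElem x) : x ∈ (incl R K M C).range := by
  classical
  obtain ⟨L, hL, hxL⟩ : ∃ L : Submodule R K, L.FG ∧ x ∈ LinearMap.range (L.subtype.rTensor M) := by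
    obtain ⟨L, hL, h⟩ := TensorProduct.exists_finite_submodule_left_of_setFinite {x} (Set.finite_singleton x)
    exact ⟨L, Module.Finite.iff_fg.1 hL, h rfl⟩
  obtain ⟨F, hF, hFC⟩ := exists_finite_dvr R K gen G hgen C hGC hC L hL
  obtain ⟨x', rfl⟩ := hxL
  let C' : Submodule R K := Subalgebra.toSubmodule C
  -- the image of `x` in each `(K / V) ⊗ M` vanishes
  have hV : ∀ V : F, ∀ hR : ∀ a : R, algebraMap R K a ∈ V.1,
      (((Subalgebra.toSubmodule (valAlg R K V.1 hR)).mkQ ∘ₗ L.subtype).rTensor M) x' = 0 := by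
    rintro ⟨V, hVF⟩ hR
    obtain ⟨hdvr, -, hGV⟩ := hF V hVF
    haveI := hdvr
    let Va := valAlg R K V hR
    obtain ⟨π, hπ⟩ := IsDiscreteValuationRing.exists_irreducible V
    let e : V ≃+* Va := RingEquiv.refl _
    let πa : Va := ⟨(π : K), π.2⟩
    haveI hmax : (Ideal.span {πa}).IsMaximal := by
      have : Ideal.span {πa} = (Ideal.span {π}).map e := by rw [Ideal.map_span, Set.image_singleton]; rfl
      rw [this]
      have hm : (Ideal.span {π}).IsMaximal :=
        hπ.maximalIdeal_eq ▸ IsLocalRing.maximalIdeal.isMaximal V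
      exact Ideal.map_isMaximal_of_equiv e
    have hred' := isReduced_quot R M Va πa hred
    obtain ⟨n, y, hy⟩ := exists_pow_mul_mem R K M V π hπ hR ((L.subtype.rTensor M) x')
    have hxV : (incl R K M Va).toRingHom.IsIntegralElem ((L.subtype.rTensor M) x') := by
      obtain ⟨P, hP, hPx⟩ := hx
      have hle : C ≤ Va := le_valAlg R K G C hC V hR hGV
      let j : C ⊗[R] M →ₐ[R] Va ⊗[R] M := Algebra.TensorProduct.map (Subalgebra.inclusion hle) (AlgHom.id R M)
      have hj : (incl R K M Va).comp j = incl R K M C := by ext <;> simp [incl, j]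
      refine ⟨P.map j.toRingHom, hP.map _, ?_⟩
      rw [Polynomial.eval₂_map]
      convert! hPx using 2
      exact congrArg AlgHom.toRingHom hj
    have hu : IsUnit ((incl R K M Va).toRingHom (πa ⊗ₜ[R] (1 : M))) := by
      have : IsUnit ((π : K)) := isUnit_iff_ne_zero.2 fun h => hπ.ne_zero (Subtype.ext h)
      simpa [incl, πa] using this.map (Algebra.TensorProduct.includeLeft (R := R) (S := R) (A := K) (B := M))
    have hy' : (incl R K M Va).toRingHom y =
        (incl R K M Va).toRingHom (πa ⊗ₜ[R] (1 : M)) ^ n * (L.subtype.rTensor M) x' := by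
      simpa [incl, πa] using hy
    obtain ⟨z, hz⟩ := dvr_step (incl R K M Va).toRingHom (incl_injective R K M Va) _ hu hred' _ hxV n y hy'
    rw [LinearMap.rTensor_comp_apply, ← hz]
    show ((Subalgebra.toSubmodule Va).mkQ.rTensor M) ((Subalgebra.toSubmodule Va).subtype.rTensor M z) = 0
    rw [← LinearMap.rTensor_comp_apply]
    have : (Subalgebra.toSubmodule Va).mkQ ∘ₗ (Subalgebra.toSubmodule Va).subtype = 0 := by
      ext v; exact (Submodule.Quotient.mk_eq_zero _).2 v.2
    rw [this, LinearMap.rTensor_zero, LinearMap.zero_apply]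
  -- the map of `L / (L ∩ C)` to the product is injective
  have hRF : ∀ V : F, ∀ a : R, algebraMap R K a ∈ V.1 := fun V => (hF V.1 V.2).2.1
  let Φ : L →ₗ[R] Π V : F, K ⧸ Subalgebra.toSubmodule (valAlg R K V.1 (hRF V)) :=
    LinearMap.pi fun V => (Subalgebra.toSubmodule (valAlg R K V.1 (hRF V))).mkQ ∘ₗ L.subtype
  have hkerΦ : LinearMap.ker Φ ≤ C'.comap L.subtype := fun q hq =>
    hFC q q.2 fun V hV' => (Submodule.Quotient.mk_eq_zero _).1 (congrFun hq ⟨V, hV'⟩)
  have hzero : (Φ.rTensor M) x' = 0 := by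
    let eP : (Π V : F, K ⧸ Subalgebra.toSubmodule (valAlg R K V.1 (hRF V))) ⊗[R] M ≃ₗ[R]
        Π V : F, (K ⧸ Subalgebra.toSubmodule (valAlg R K V.1 (hRF V))) ⊗[R] M := TensorProduct.piLeft ..
    apply eP.injective
    rw [map_zero]
    funext V
    have hcomp : ∀ w : L ⊗[R] M, eP ((Φ.rTensor M) w) V =
        (((Subalgebra.toSubmodule (valAlg R K V.1 (hRF V))).mkQ ∘ₗ L.subtype).rTensor M) w := fun w => by
      induction w using TensorProduct.induction_on with
      | zero => simp
      | tmul a m => simp [Φ, eP]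
      | add a b ha hb => simp only [map_add, Pi.add_apply, ha, hb]
    rw [hcomp, hV V (hRF V)]
    rfl
  have hex : Function.Exact (C'.subtype.rTensor M) (C'.mkQ.rTensor M) :=
    rTensor_exact M (LinearMap.exact_subtype_mkQ C') C'.mkQ_surjective
  have hxC : (C'.mkQ.rTensor M) ((L.subtype.rTensor M) x') = 0 := by
    letI : AddCommGroup ↥(LinearMap.ker Φ) := Submodule.addCommGroup _
    obtain ⟨w, hw⟩ := (Module.Flat.rTensor_exact M ((LinearMap.exact_iff (f := (LinearMap.ker Φ).subtype) (g := Φ)).2 (Submodule.range_subtype _).symm) x').1 hzero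
    rw [← hw, ← LinearMap.rTensor_comp_apply, ← LinearMap.rTensor_comp_apply]
    have : (C'.mkQ ∘ₗ L.subtype) ∘ₗ (LinearMap.ker Φ).subtype = 0 := by
      ext q; exact (Submodule.Quotient.mk_eq_zero _).2 (hkerΦ q.2)
    rw [this, LinearMap.rTensor_zero, LinearMap.zero_apply]
  obtain ⟨w, hw⟩ := (hex _).1 hxC
  exact ⟨w, hw⟩

end

end Groth.Agent.NormTensor
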