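import Groth.Agent.RegLocus.NagataCrit
import Groth.Agent.RegLocus.GeomMisc
import Mathlib

/-!
Two normality criteria: integrally closed in a normal localisation, and directed unions.
-/

set_option autoImplicit false

universe u

open Polynomial

namespace Groth.Agent.NormTensor

theorem isDomain_of_idempotent (R : Type u) [CommRing R] [Nontrivial R] (hR : EGA4.IsNormalRing R)
    (hfin : (minimalPrimes R).Finite) (hidem : ∀ e : R, e * e = e → e = 0 ∨ e = 1) : IsDomain R := by
  classical
  haveI := RegLocus.isReduced_of_isNormalRing R hR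
  haveI := hfin.to_subtype
  have hco : Pairwise (Function.onFun IsCoprime (fun P : minimalPrimes R => (P : Ideal R))) := by
    intro P Q hPQ
    rw [Function.onFun, Ideal.isCoprime_iff_sup_eq]
    by_contra h
    obtain ⟨m, hm, hle⟩ := Ideal.exists_le_maximal _ h
    obtain ⟨hd, -⟩ := hR m
    haveI := hd
    have key : ∀ P : minimalPrimes R, (P : Ideal R) ≤ m → ∀ x : R,
        x ∈ (P : Ideal R) ↔ algebraMap R (Localization.AtPrime m) x = 0 := by
      intro P hP x
      haveI : (P : Ideal R).IsPrime := P.2.1.1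
      let K : Ideal R := (⊥ : Ideal (Localization.AtPrime m)).comap (algebraMap R _)
      have hK : K ≤ P := fun y hy => by
        obtain ⟨s, hs⟩ := (IsLocalization.map_eq_zero_iff m.primeCompl _ y).1 hy
        exact ((P.2.1.1).mem_or_mem (hs ▸ zero_mem _ : (s : R) * y ∈ (P : Ideal R))).resolve_left fun h => s.2 (hP h)
      haveI : K.IsPrime := Ideal.IsPrime.comap _
      have hPK : (P : Ideal R) ≤ K := P.2.2 ⟨inferInstance, bot_le⟩ hK
      exact ⟨fun hx => hPK hx, fun hx => hK hx⟩
    exact hPQ (Subtype.ext (Ideal.ext fun x =>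
      (key P (le_sup_left.trans hle) x).trans (key Q (le_sup_right.trans hle) x).symm))
  have hinf : ∀ x : R, (∀ P : minimalPrimes R, x ∈ (P : Ideal R)) → x = 0 := fun x hx => by
    have : x ∈ sInf (minimalPrimes R) := Ideal.mem_sInf.2 fun {I} hI => hx ⟨I, hI⟩
    rw [minimalPrimes, Ideal.sInf_minimalPrimes] at this
    exact (mem_nilradical.1 this).eq_zero
  obtain ⟨P, hP⟩ := Ideal.nonempty_minimalPrimes (I := (⊥ : Ideal R)) bot_ne_top
  have hall : ∀ Q : minimalPrimes R, Q = ⟨P, hP⟩ := by
    intro Q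
    by_contra hne
    obtain ⟨e, he⟩ := Ideal.exists_forall_sub_mem_ideal hco (fun P' => if P' = Q then 1 else 0)
    have hee : e * e = e := sub_eq_zero.1 (hinf _ fun P' => by
      have := he P'
      by_cases h : P' = Q
      · rw [if_pos h] at this
        convert (P' : Ideal R).mul_mem_left e this using 1; ring
      · rw [if_neg h, sub_zero] at this
        exact sub_mem ((P' : Ideal R).mul_mem_left e this) this)
    rcases hidem e hee with rfl | rfl
    · have := he Q
      rw [if_pos rfl, zero_sub, neg_mem_iff] at this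
      exact Q.2.1.1.ne_top ((Ideal.eq_top_iff_one _).2 this)
    · have := he ⟨P, hP⟩
      rw [if_neg (fun h => hne h.symm), sub_zero] at this
      exact hP.1.1.ne_top ((Ideal.eq_top_iff_one _).2 this)
  have hbot : P = ⊥ := eq_bot_iff.2 fun x hx => hinf x fun Q => by rw [hall Q]; exact hx
  haveI : P.IsPrime := hP.1.1
  haveI : (⊥ : Ideal R).IsPrime := hbot ▸ hP.1.1
  exact IsDomain.of_bot_isPrime R

/-- `T` integrally closed in a localisation which is normal with finitely many minimal primes. -/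
theorem isNormalRing_of_closed (T R1 : Type u) [CommRing T] [CommRing R1] [Algebra T R1] (U : Submonoid T)
    [IsLocalization U R1] (hinj : Function.Injective (algebraMap T R1))
    (hcl : ∀ x : R1, IsIntegral T x → x ∈ Set.range (algebraMap T R1))
    (hR1 : EGA4.IsNormalRing R1) (hfin : (minimalPrimes R1).Finite) : EGA4.IsNormalRing T := fun q _ => by
  let Tq := Localization.AtPrime q
  let Rq := Localization (Algebra.algebraMapSubmonoid R1 q.primeCompl)
  letI : Algebra Tq Rq := localizationAlgebra q.primeCompl R1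
  haveI : IsScalarTower T Tq Rq := IsScalarTower.of_algebraMap_eq fun x => by
    rw [IsScalarTower.algebraMap_apply T R1 Rq]
    exact (IsLocalization.map_eq (M := q.primeCompl) (S := Tq)
      (show q.primeCompl ≤ (Algebra.algebraMapSubmonoid R1 q.primeCompl).comap (algebraMap T R1) from
        Submonoid.le_comap_map _) x).symm
  have hmapR : ∀ y : q.primeCompl, IsUnit (algebraMap T Rq y) := fun y => by
    rw [IsScalarTower.algebraMap_apply T R1 Rq]
    exact IsLocalization.map_units Rq (⟨_, y, y.2, rfl⟩ : Algebra.algebraMapSubmonoid R1 q.primeCompl)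
  have hinjq : Function.Injective (algebraMap Tq Rq) := by
    rw [injective_iff_map_eq_zero]
    intro z hz
    obtain ⟨a, s, rfl⟩ := IsLocalization.exists_mk'_eq q.primeCompl z
    have h1 : algebraMap T Rq a = 0 := by
      rw [IsScalarTower.algebraMap_apply T Tq Rq, ← IsLocalization.mk'_spec Tq a s, map_mul, hz, zero_mul]
    rw [IsScalarTower.algebraMap_apply T R1 Rq, IsLocalization.map_eq_zero_iff
      (Algebra.algebraMapSubmonoid R1 q.primeCompl)] at h1
    obtain ⟨⟨_, w, hw, rfl⟩, hwa⟩ := h1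
    rw [← map_mul] at hwa
    exact (IsLocalization.mk'_eq_zero_iff a s).2 ⟨⟨w, hw⟩, hinj (hwa.trans (map_zero _).symm)⟩
  have hclq : ∀ z : Rq, IsIntegral Tq z → z ∈ Set.range (algebraMap Tq Rq) := fun z hz => by
    obtain ⟨m, hm⟩ := hz.exists_multiple_integral_of_isLocalization q.primeCompl z
    obtain ⟨r, ⟨_, t, ht, rfl⟩, e⟩ :=
      IsLocalization.exists_mk'_eq (Algebra.algebraMapSubmonoid R1 q.primeCompl) (m • z)
    have h1 : algebraMap R1 Rq r = algebraMap T Rq t * (m • z) := by
      rw [← e, IsScalarTower.algebraMap_apply T R1 Rq]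
      exact (IsLocalization.mk'_spec' Rq r (⟨_, t, ht, rfl⟩ : Algebra.algebraMapSubmonoid R1 q.primeCompl)).symm
    have hr : IsIntegral T (algebraMap R1 Rq r) := by
      rw [h1]
      exact isIntegral_algebraMap.mul hm
    obtain ⟨n, hn, hnr⟩ := IsLocalization.exists_isIntegral_smul_of_isIntegral_map q.primeCompl hr
    obtain ⟨a, ha⟩ := hcl _ hnr
    refine ⟨IsLocalization.mk' Tq a ⟨n * t * m, mul_mem (mul_mem hn ht) m.2⟩, ?_⟩
    refine (hmapR ⟨n * t * m, mul_mem (mul_mem hn ht) m.2⟩).mul_left_cancel ?_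
    rw [IsScalarTower.algebraMap_apply T Tq Rq, ← map_mul, IsLocalization.mk'_spec',
      ← IsScalarTower.algebraMap_apply, IsScalarTower.algebraMap_apply T R1 Rq a, ha,
      ← IsScalarTower.algebraMap_apply T Tq Rq, Algebra.smul_def, map_mul, h1,
      ← IsScalarTower.algebraMap_apply, Submonoid.smul_def, Algebra.smul_def, map_mul, map_mul]
    ring
  haveI : Nontrivial Rq := hinjq.nontrivial
  have hnorm : EGA4.IsNormalRing Rq :=
    RegLocus.isNormalRing_of_localization R1 (Algebra.algebraMapSubmonoid R1 q.primeCompl) Rq hR1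
  have hfinq : (minimalPrimes Rq).Finite := by
    have h := IsLocalization.minimalPrimes_map (Algebra.algebraMapSubmonoid R1 q.primeCompl) (A := Rq) (⊥ : Ideal R1)
    rw [Ideal.map_bot] at h
    change ((⊥ : Ideal Rq).minimalPrimes).Finite
    rw [h]
    exact hfin.preimage fun I hI J hJ e => by
      exact ((IsLocalization.map_comap (Algebra.algebraMapSubmonoid R1 q.primeCompl) Rq I).symm.trans
        (congrArg (Ideal.map (algebraMap R1 Rq)) e)).trans
        (IsLocalization.map_comap (Algebra.algebraMapSubmonoid R1 q.primeCompl) Rq J)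
  haveI : IsDomain Rq := isDomain_of_idempotent Rq hnorm hfinq fun e he => by
    have hint : IsIntegral Tq e :=
      ⟨X ^ 2 - X, monic_X_pow_sub (by rw [degree_X]; norm_num), by simp [sq, he]⟩
    obtain ⟨a, rfl⟩ := hclq e hint
    have ha : a * (1 - a) = 0 := hinjq (by rw [map_mul, map_sub, map_one, map_zero, mul_sub, mul_one, he, sub_self])
    rcases IsLocalRing.isUnit_or_isUnit_one_sub_self a with h | h
    · right
      rw [(sub_eq_zero.1 (h.mul_right_eq_zero.1 ha)).symm, map_one]
    · left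
      rw [h.mul_left_eq_zero.1 ha, map_zero]
  haveI : IsIntegrallyClosed Rq := IsIntegrallyClosed.of_localization_maximal fun p _ _ => (hnorm p).2
  haveI : IsDomain Tq := hinjq.isDomain _
  refine ⟨inferInstance, (isIntegrallyClosed_iff (FractionRing Tq)).2 fun {x} hx => ?_⟩
  let j : FractionRing Tq →+* FractionRing Rq :=
    IsFractionRing.lift (A := Tq) (K := FractionRing Tq) (g := (algebraMap Rq (FractionRing Rq)).comp (algebraMap Tq Rq))
      ((IsFractionRing.injective Rq (FractionRing Rq)).comp hinjq)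
  have hj : ∀ a, j (algebraMap Tq _ a) = algebraMap Rq _ (algebraMap Tq Rq a) := fun a =>
    IsFractionRing.lift_algebraMap _ a
  obtain ⟨P, hP, hPx⟩ := hx
  have hjx : IsIntegral Rq (j x) := by
    refine ⟨P.map (algebraMap Tq Rq), hP.map _, ?_⟩
    rw [Polynomial.eval₂_map, show (algebraMap Rq (FractionRing Rq)).comp (algebraMap Tq Rq) =
      j.comp (algebraMap Tq (FractionRing Tq)) from RingHom.ext fun a => (hj a).symm, ← Polynomial.hom_eval₂,
      hPx, map_zero]
  obtain ⟨y, hy⟩ := IsIntegrallyClosed.isIntegral_iff.1 hjx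
  obtain ⟨a, rfl⟩ : y ∈ Set.range (algebraMap Tq Rq) := hclq y ⟨P, hP, by
    apply IsFractionRing.injective Rq (FractionRing Rq)
    rw [map_zero, Polynomial.hom_eval₂, hy, show (algebraMap Rq (FractionRing Rq)).comp (algebraMap Tq Rq) =
      j.comp (algebraMap Tq (FractionRing Tq)) from RingHom.ext fun a => (hj a).symm, ← Polynomial.hom_eval₂,
      hPx, map_zero]⟩
  exact ⟨a, j.injective ((hj a).trans hy)⟩

/-- A directed union of normal subrings is normal. -/
theorem isNormalRing_of_union (T : Type u) [CommRing T]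
    (h : ∀ G : Finset T, ∃ (T0 : Type u) (_ : CommRing T0) (f : T0 →+* T),
      Function.Injective f ∧ EGA4.IsNormalRing T0 ∧ (G : Set T) ⊆ Set.range f) : EGA4.IsNormalRing T := fun q _ => by
  classical
  let Tq := Localization.AtPrime q
  haveI : IsDomain Tq := by
    haveI : NoZeroDivisors Tq := ⟨fun {z w} hzw => by
      obtain ⟨a, s, rfl⟩ := IsLocalization.exists_mk'_eq q.primeCompl z
      obtain ⟨b, t, rfl⟩ := IsLocalization.exists_mk'_eq q.primeCompl w
      rw [← IsLocalization.mk'_mul, IsLocalization.mk'_eq_zero_iff] at hzw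
      obtain ⟨u, hu⟩ := hzw
      obtain ⟨T0, _, f, hf, hn, hG⟩ := h {a, b, (u : T)}
      obtain ⟨a0, ha⟩ := hG (show a ∈ ({a, b, (u : T)} : Finset T) by simp)
      obtain ⟨b0, hb⟩ := hG (show b ∈ ({a, b, (u : T)} : Finset T) by simp)
      obtain ⟨u0, hu0⟩ := hG (show (u : T) ∈ ({a, b, (u : T)} : Finset T) by simp)
      obtain ⟨hd, -⟩ := hn (q.comap f)
      haveI := hd
      have h0 : u0 * (a0 * b0) = 0 := hf (by rw [map_mul, map_mul, ha, hb, hu0, hu, map_zero])
      have h1 : algebraMap T0 (Localization.AtPrime (q.comap f)) (a0 * b0) = 0 :=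
        (IsLocalization.map_eq_zero_iff (q.comap f).primeCompl _ _).2 ⟨⟨u0, fun hmem => u.2 (hu0 ▸ hmem)⟩, h0⟩
      rw [map_mul] at h1
      rcases mul_eq_zero.1 h1 with h2 | h2
      · left
        obtain ⟨v, hv⟩ := (IsLocalization.map_eq_zero_iff (q.comap f).primeCompl _ _).1 h2
        exact (IsLocalization.mk'_eq_zero_iff a s).2 ⟨⟨f v, v.2⟩, by rw [← ha, ← map_mul, hv, map_zero]⟩
      · right
        obtain ⟨v, hv⟩ := (IsLocalization.map_eq_zero_iff (q.comap f).primeCompl _ _).1 h2
        exact (IsLocalization.mk'_eq_zero_iff b t).2 ⟨⟨f v, v.2⟩, by rw [← hb, ← map_mul, hv, map_zero]⟩⟩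
    exact NoZeroDivisors.to_isDomain _
  let K := FractionRing Tq
  refine ⟨inferInstance, (isIntegrallyClosed_iff K).2 fun {x} hx => ?_⟩
  -- reduce to an element integral over `T`
  obtain ⟨m, hm⟩ := hx.exists_multiple_integral_of_isLocalization q.primeCompl x
  have hK : ∀ r : T, algebraMap T K r = algebraMap Tq K (algebraMap T Tq r) :=
    fun r => IsScalarTower.algebraMap_apply T Tq K r
  suffices hy : ∃ c, algebraMap Tq K c = m • x by
    obtain ⟨c, hc⟩ := hy
    refine ⟨c * IsLocalization.mk' Tq (1 : T) m, ?_⟩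
    rw [map_mul, hc, Submonoid.smul_def, Algebra.smul_def, hK, mul_right_comm, ← map_mul,
      IsLocalization.mk'_spec', map_one, map_one, one_mul]
  clear hx
  generalize m • x = y at hm
  obtain ⟨z, ⟨w, hw⟩, rfl⟩ := IsLocalization.exists_mk'_eq (nonZeroDivisors Tq) y
  obtain ⟨a0, s, rfl⟩ := IsLocalization.exists_mk'_eq q.primeCompl z
  obtain ⟨b0, t, rfl⟩ := IsLocalization.exists_mk'_eq q.primeCompl w
  -- a common denominator
  let a := a0 * (t : T)
  let b := b0 * (s : T)
  have hb : algebraMap T K b ≠ 0 := by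
    have hb' : algebraMap T Tq b0 ≠ 0 := fun h0 => nonZeroDivisors.ne_zero hw
      ((IsLocalization.mk'_eq_zero_iff b0 t).2 ((IsLocalization.map_eq_zero_iff q.primeCompl _ _).1 h0))
    rw [hK, map_ne_zero_iff _ (IsFractionRing.injective Tq K), map_mul]
    exact mul_ne_zero hb' (IsLocalization.map_units Tq s).ne_zero
  have hy : IsLocalization.mk' K (IsLocalization.mk' Tq a0 s) ⟨_, hw⟩ * algebraMap T K b = algebraMap T K a := by
    have e1 : algebraMap T Tq b = IsLocalization.mk' Tq b0 t * algebraMap T Tq ((t : T) * s) := by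
      rw [map_mul, map_mul, ← mul_assoc, IsLocalization.mk'_spec]
    have e2 : algebraMap T Tq a = IsLocalization.mk' Tq a0 s * algebraMap T Tq ((t : T) * s) := by
      rw [map_mul, map_mul, mul_comm (algebraMap T Tq t), ← mul_assoc, IsLocalization.mk'_spec]
    rw [hK, hK, e1, e2, map_mul (algebraMap Tq K), map_mul (algebraMap Tq K), ← mul_assoc]
    congr 1
    exact IsLocalization.mk'_spec K _ _
  obtain ⟨P, hP, hPy⟩ := hm
  have hrel : algebraMap T K ((P.scaleRoots b).eval a) = 0 := by
    rw [← Polynomial.eval₂_at_apply, ← hy, mul_comm]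
    exact Polynomial.scaleRoots_eval₂_eq_zero _ hPy
  rw [hK, map_eq_zero_iff _ (IsFractionRing.injective Tq K),
    IsLocalization.map_eq_zero_iff q.primeCompl] at hrel
  obtain ⟨u, hu⟩ := hrel
  obtain ⟨T0, _, f, hf, hn, hG⟩ := h ({a, b, (u : T)} ∪ P.support.image P.coeff)
  obtain ⟨a', ha⟩ := hG (show a ∈ ({a, b, (u : T)} ∪ P.support.image P.coeff : Finset T) by simp)
  obtain ⟨b', hb'⟩ := hG (show b ∈ ({a, b, (u : T)} ∪ P.support.image P.coeff : Finset T) by simp)
  obtain ⟨u', hu'⟩ := hG (show (u : T) ∈ ({a, b, (u : T)} ∪ P.support.image P.coeff : Finset T) by simp)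
  have hlift : P ∈ Polynomial.lifts f := (Polynomial.lifts_iff_coeff_lifts P).2 fun i => by
    by_cases hi : i ∈ P.support
    · exact hG (by simp only [Finset.coe_union, Finset.coe_image, Set.mem_union, Set.mem_image]
                   exact Or.inr ⟨i, hi, rfl⟩)
    · exact ⟨0, by rw [map_zero, Polynomial.notMem_support_iff.1 hi]⟩
  obtain ⟨P', hP', -, hP'm⟩ := Polynomial.lifts_and_natDegree_eq_and_monic hlift hP
  obtain ⟨hd, hc⟩ := hn (q.comap f)
  haveI := hd
  haveI := hc
  let S0 := Localization.AtPrime (q.comap f)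
  have hρ : f ((P'.scaleRoots b').eval a') = (P.scaleRoots b).eval a := by
    haveI : Nontrivial T := ⟨⟨0, 1, fun h01 => u.2 (by
      rw [← mul_one (u : T), ← h01, mul_zero]; exact zero_mem q)⟩⟩
    rw [← hP', ← hb', ← ha, ← Polynomial.map_scaleRoots _ _ _ (by rw [hP'm.leadingCoeff, map_one]; exact one_ne_zero),
      Polynomial.eval_map, Polynomial.eval₂_at_apply]
  have h0 : algebraMap T0 S0 ((P'.scaleRoots b').eval a') = 0 :=
    (IsLocalization.map_eq_zero_iff (q.comap f).primeCompl _ _).2
      ⟨⟨u', fun hmem => u.2 (hu' ▸ hmem)⟩, hf (by rw [map_mul, hu', hρ, hu, map_zero])⟩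
  have hb0' : algebraMap T0 S0 b' ≠ 0 := fun h0' => hb (by
    obtain ⟨v, hv⟩ := (IsLocalization.map_eq_zero_iff (q.comap f).primeCompl _ _).1 h0'
    rw [hK, (IsLocalization.map_eq_zero_iff q.primeCompl _ b).2 ⟨⟨f v, v.2⟩, by rw [← hb', ← map_mul, hv, map_zero]⟩,
      map_zero])
  let F := FractionRing S0
  have hint : IsIntegral S0 (algebraMap S0 F (algebraMap T0 S0 a') / algebraMap S0 F (algebraMap T0 S0 b')) := by
    refine ⟨P'.map (algebraMap T0 S0), hP'm.map _, ?_⟩
    rw [Polynomial.eval₂_map]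
    set g := (algebraMap S0 F).comp (algebraMap T0 S0) with hg
    have hgb : g b' ≠ 0 := (map_ne_zero_iff _ (IsFractionRing.injective S0 F)).2 hb0'
    have key := Polynomial.scaleRoots_eval₂_mul (p := P') g (g a' / g b') b'
    rw [mul_div_cancel₀ _ hgb, Polynomial.eval₂_at_apply, hg, RingHom.comp_apply, h0, map_zero, ← hg] at key
    exact (mul_eq_zero.1 key.symm).resolve_left (pow_ne_zero _ hgb)
  obtain ⟨c, hc'⟩ := IsIntegrallyClosed.isIntegral_iff.1 hint
  obtain ⟨n, σ, rfl⟩ := IsLocalization.exists_mk'_eq (q.comap f).primeCompl c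
  have e3 : algebraMap T0 S0 (a' * σ) = algebraMap T0 S0 (n * b') := by
    apply IsFractionRing.injective S0 F
    rw [eq_div_iff ((map_ne_zero_iff _ (IsFractionRing.injective S0 F)).2 hb0')] at hc'
    rw [map_mul, map_mul (algebraMap T0 S0) n, ← IsLocalization.mk'_spec S0 n σ, map_mul, map_mul, map_mul, ← hc']
    ring
  rw [IsLocalization.eq_iff_exists (q.comap f).primeCompl] at e3
  obtain ⟨v, hv⟩ := e3
  refine ⟨IsLocalization.mk' Tq (f n) (⟨f σ, σ.2⟩ : q.primeCompl), mul_right_cancel₀ hb ?_⟩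
  rw [hy, hK, hK, ← map_mul]
  congr 1
  have e4 : algebraMap T Tq (a * f σ) = algebraMap T Tq (f n * b) := by
    refine (IsLocalization.eq_iff_exists q.primeCompl _).2 ⟨⟨f v, v.2⟩, ?_⟩
    show f v * (a * f σ) = f v * (f n * b)
    rw [← ha, ← hb', ← map_mul, ← map_mul, ← map_mul, ← map_mul, hv]
  refine (IsLocalization.map_units Tq (⟨f σ, σ.2⟩ : q.primeCompl)).mul_right_cancel ?_
  rw [mul_right_comm, IsLocalization.mk'_spec, ← map_mul, ← map_mul]
  exact e4.symm

end Groth.Agent.NormTensor
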