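import Groth.Agent.NormTensor.Core
import Groth.Agent.NormTensor.Normal
import Mathlib

/-!
`B ⊗ M` is normal for a normal ring `B` when `M` is flat with reduced fibres and normal generic fibres.
-/

set_option autoImplicit false
set_option linter.style.haveILetI false

universe u

open TensorProduct

namespace Groth.Agent.NormTensor

variable (R : Type u) [CommRing R]

/-- Normality of `B ⊗ M` is local on `B`. -/
theorem isNormalRing_tensor_of_localizations (B M : Type u) [CommRing B] [CommRing M] [Algebra R B] [Algebra R M]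
    (h : ∀ (P : Ideal B) [P.IsPrime], EGA4.IsNormalRing (Localization.AtPrime P ⊗[R] M)) :
    EGA4.IsNormalRing (B ⊗[R] M) := fun Q _ => by
  let S := B ⊗[R] M
  let P := Q.comap (algebraMap B S)
  let BP := Localization.AtPrime P
  letI : Algebra S (BP ⊗[B] S) := Algebra.TensorProduct.rightAlgebra
  haveI : IsLocalization (Algebra.algebraMapSubmonoid S P.primeCompl) (BP ⊗[B] S) := inferInstance
  have hn : EGA4.IsNormalRing (BP ⊗[B] S) :=
    RegLocus.isNormalRing_of_equiv (Algebra.TensorProduct.cancelBaseChange R B B BP M).toRingEquiv.symm (h P)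
  let Q' := Q.map (algebraMap S (BP ⊗[B] S))
  have hdisj : Disjoint (Algebra.algebraMapSubmonoid S P.primeCompl : Set S) Q := by
    rw [Set.disjoint_left]
    rintro _ ⟨b, hb, rfl⟩ hbQ
    exact hb hbQ
  haveI : Q'.IsPrime :=
    IsLocalization.isPrime_of_isPrime_disjoint (Algebra.algebraMapSubmonoid S P.primeCompl) _ Q inferInstance hdisj
  have hQ : Q'.comap (algebraMap S (BP ⊗[B] S)) = Q :=
    IsLocalization.comap_map_of_isPrime_disjoint (Algebra.algebraMapSubmonoid S P.primeCompl) _ inferInstance hdisj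
  haveI := IsLocalization.isLocalization_isLocalization_atPrime_isLocalization
    (Algebra.algebraMapSubmonoid S P.primeCompl) (Localization.AtPrime Q') Q'
  have key : ∀ (q : Ideal S) [q.IsPrime], q = Q'.comap (algebraMap S (BP ⊗[B] S)) →
      IsDomain (Localization.AtPrime q) ∧ IsIntegrallyClosed (Localization.AtPrime q) := by
    intro q _ hq
    subst hq
    obtain ⟨h1, h2⟩ := hn Q'
    haveI := h1
    haveI := h2
    let e := IsLocalization.algEquiv (Q'.comap (algebraMap S (BP ⊗[B] S))).primeCompl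
      (Localization.AtPrime (Q'.comap (algebraMap S (BP ⊗[B] S)))) (Localization.AtPrime Q')
    exact ⟨e.toMulEquiv.isDomain, IsIntegrallyClosed.of_equiv (R := Localization.AtPrime Q') e.symm.toRingEquiv⟩
  exact key Q hQ.symm

variable [IsNoetherianRing R] (M : Type u) [CommRing M] [Algebra R M] [Module.Flat R M]

/-- denominators in a subalgebra containing field generators -/
theorem exists_den (K : Type u) [Field K] [Algebra R K] (gen : Finset K)
    (hgen : Subfield.closure (Set.range (algebraMap R K) ∪ gen) = ⊤) (C : Subalgebra R K)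
    (hC : (gen : Set K) ⊆ C) (z : K) : ∃ b c : K, b ∈ C ∧ c ∈ C ∧ z = b / c := by
  let F : Subfield K :=
    { carrier := {z | ∃ b c : C, z = (b : K) / (c : K)}
      mul_mem' := by
        rintro _ _ ⟨b, c, rfl⟩ ⟨b', c', rfl⟩
        exact ⟨b * b', c * c', by push_cast; rw [div_mul_div_comm]⟩
      one_mem' := ⟨1, 1, by simp⟩
      add_mem' := by
        rintro _ _ ⟨b, c, rfl⟩ ⟨b', c', rfl⟩
        rcases eq_or_ne (c : K) 0 with hc | hc
        · exact ⟨b', c', by simp [hc]⟩
        rcases eq_or_ne (c' : K) 0 with hc' | hc'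
        · exact ⟨b, c, by simp [hc']⟩
        exact ⟨b * c' + c * b', c * c', by push_cast; rw [div_add_div _ _ hc hc']⟩
      zero_mem' := ⟨0, 1, by simp⟩
      neg_mem' := by
        rintro _ ⟨b, c, rfl⟩
        exact ⟨-b, c, by push_cast; rw [neg_div]⟩
      inv_mem' := by
        rintro _ ⟨b, c, rfl⟩
        exact ⟨c, b, by rw [inv_div]⟩ }
  have hF : Subfield.closure (Set.range (algebraMap R K) ∪ gen) ≤ F := by
    rw [Subfield.closure_le]
    rintro x (⟨a, rfl⟩ | hx)
    · exact ⟨algebraMap R C a, 1, by simp⟩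
    · exact ⟨⟨x, hC hx⟩, 1, by simp⟩
  rw [hgen] at hF
  obtain ⟨b, c, hz⟩ := hF (show z ∈ (⊤ : Subfield K) from trivial)
  exact ⟨b, c, b.2, c.2, hz⟩

/-- the integral closure case -/
theorem isNormalRing_tensor_closure (K : Type u) [Field K] [Algebra R K] (gen : Finset K)
    (hgen : Subfield.closure (Set.range (algebraMap R K) ∪ gen) = ⊤) (C : Subalgebra R K)
    [IsIntegrallyClosedIn C K] (hgC : (gen : Set K) ⊆ C)
    (hC : ∀ z ∈ C, IsIntegral (Algebra.adjoin R (gen : Set K)) z)
    (hred : ∀ (F : Type u) [Field F] [Algebra R F], IsReduced (F ⊗[R] M))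
    (hK : EGA4.IsNormalRing (K ⊗[R] M)) (hfin : (minimalPrimes (K ⊗[R] M)).Finite) :
    EGA4.IsNormalRing (C ⊗[R] M) := by
  letI : Algebra (C ⊗[R] M) (K ⊗[R] M) := (incl R K M C).toRingHom.toAlgebra
  let U : Submonoid (C ⊗[R] M) :=
    { carrier := {x | ∃ c : C, c ≠ 0 ∧ x = c ⊗ₜ (1 : M)}
      one_mem' := ⟨1, one_ne_zero, rfl⟩
      mul_mem' := by
        rintro _ _ ⟨c, hc, rfl⟩ ⟨d, hd, rfl⟩
        exact ⟨c * d, mul_ne_zero hc hd, by rw [Algebra.TensorProduct.tmul_mul_tmul, one_mul]⟩ }
  have hunit : ∀ c : C, c ≠ 0 → IsUnit ((c : K) ⊗ₜ[R] (1 : M)) := fun c hc =>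
    (isUnit_iff_ne_zero.2 fun h => hc (Subtype.ext h)).map
      (Algebra.TensorProduct.includeLeft (R := R) (S := R) (A := K) (B := M))
  have hinj : Function.Injective (algebraMap (C ⊗[R] M) (K ⊗[R] M)) := incl_injective R K M C
  haveI : IsLocalization U (K ⊗[R] M) := by
    refine ⟨⟨?_, ?_, ?_⟩⟩
    · rintro ⟨_, c, hc, rfl⟩
      exact hunit c hc
    · intro x
      suffices ∃ (c : C) (_ : c ≠ 0) (a : C ⊗[R] M), x * ((c : K) ⊗ₜ[R] (1 : M)) = incl R K M C a by
        obtain ⟨c, hc, a, ha⟩ := this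
        exact ⟨⟨a, ⟨c ⊗ₜ 1, c, hc, rfl⟩⟩, ha⟩
      induction x using TensorProduct.induction_on with
      | zero => exact ⟨1, one_ne_zero, 0, by simp⟩
      | tmul z m =>
        obtain ⟨b, c, hb, hc, rfl⟩ := exists_den R K gen hgen C hgC z
        rcases eq_or_ne c 0 with rfl | hc0
        · exact ⟨1, one_ne_zero, 0, by simp⟩
        · exact ⟨⟨c, hc⟩, fun h => hc0 (congrArg Subtype.val h), ⟨b, hb⟩ ⊗ₜ m, by
            simp [incl, div_mul_cancel₀ _ hc0]⟩
      | add y z hy hz =>
        obtain ⟨c, hc, a, ha⟩ := hy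
        obtain ⟨d, hd, a', ha'⟩ := hz
        refine ⟨c * d, mul_ne_zero hc hd, (d ⊗ₜ 1) * a + (c ⊗ₜ 1) * a', ?_⟩
        rw [map_add, map_mul, map_mul, ← ha, ← ha']
        have e : ((c * d : C) : K) ⊗ₜ[R] (1 : M) = ((c : K) ⊗ₜ[R] (1 : M)) * ((d : K) ⊗ₜ[R] (1 : M)) := by simp
        rw [e]
        simp only [incl, Algebra.TensorProduct.map_tmul, map_one, Subalgebra.coe_val]
        ring
    · intro x y h
      exact ⟨1, by rw [hinj h]⟩
  refine isNormalRing_of_closed _ (K ⊗[R] M) U hinj (fun x hx => ?_) hK hfin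
  obtain ⟨a, ha⟩ := incl_integrallyClosed R K M gen gen hgen C hgC hC hred x hx
  exact ⟨a, ha⟩

/-- domain case -/
theorem isNormalRing_tensor_domain (B : Type u) [CommRing B] [IsDomain B] [IsIntegrallyClosed B] [Algebra R B]
    (hred : ∀ (F : Type u) [Field F] [Algebra R F], IsReduced (F ⊗[R] M))
    (hfield : ∀ (K : Type u) [Field K] [Algebra R K],
      (∃ gen : Finset K, Subfield.closure (Set.range (algebraMap R K) ∪ gen) = ⊤) →
      Nonempty (K →ₐ[R] FractionRing B) →
      EGA4.IsNormalRing (K ⊗[R] M) ∧ (minimalPrimes (K ⊗[R] M)).Finite) :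
    EGA4.IsNormalRing (B ⊗[R] M) := by
  classical
  refine isNormalRing_of_union _ fun G => ?_
  obtain ⟨L, hL, hGL⟩ := TensorProduct.exists_finite_submodule_left_of_setFinite (G : Set (B ⊗[R] M)) G.finite_toSet
  obtain ⟨g, hg⟩ := Module.Finite.iff_fg.1 hL
  let KB := FractionRing B
  let ι : B →+* KB := algebraMap B KB
  let K0 : Subfield KB := Subfield.closure (Set.range (algebraMap R KB) ∪ g.image ι)
  have hRK : ∀ a : R, algebraMap R KB a ∈ K0 := fun a => Subfield.subset_closure (Or.inl ⟨a, rfl⟩)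
  letI : Algebra R K0 := ((algebraMap R KB).codRestrict K0 hRK).toAlgebra
  let v : K0 →ₐ[R] KB := { K0.subtype with commutes' := fun _ => rfl }
  have hmem : ∀ x ∈ g.image ι, x ∈ K0 := fun x hx => Subfield.subset_closure (Or.inr (Finset.mem_coe.2 hx))
  let gen : Finset K0 := (g.image ι).subtype (· ∈ K0)
  have hv : v '' (gen : Set K0) = (g.image ι : Set KB) := by
    ext x
    constructor
    · rintro ⟨y, hy, rfl⟩
      exact Finset.mem_subtype.1 hy
    · intro hx
      exact ⟨⟨x, hmem x hx⟩, Finset.mem_subtype.2 hx, rfl⟩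
  have hgen : Subfield.closure (Set.range (algebraMap R K0) ∪ gen) = ⊤ := by
    have h : (Subfield.closure (Set.range (algebraMap R K0) ∪ gen)).map K0.subtype = K0 := by
      rw [RingHom.map_field_closure, Set.image_union, ← Set.range_comp]
      exact congrArg (fun s => Subfield.closure (Set.range (algebraMap R KB) ∪ s)) hv
    refine eq_top_iff.2 fun x _ => ?_
    obtain ⟨y, hy, hyx⟩ := (h.symm ▸ x.2 : (x : KB) ∈ (Subfield.closure (Set.range (algebraMap R K0) ∪ gen)).map K0.subtype)
    exact (Subtype.ext hyx : y = x) ▸ hy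
  let C0 := Algebra.adjoin R (gen : Set K0)
  let C : Subalgebra R K0 := (integralClosure C0 K0).restrictScalars R
  haveI : IsIntegrallyClosedIn C K0 := by
    show IsIntegrallyClosedIn (integralClosure C0 K0) K0
    infer_instance
  have hgC : (gen : Set K0) ⊆ C := fun x hx =>
    (integralClosure C0 K0).algebraMap_mem ⟨x, Algebra.subset_adjoin hx⟩
  -- the map `C → B`
  let vC : C →ₐ[R] KB := v.comp C.val
  have hBR : ∀ z : C, vC z ∈ (IsScalarTower.toAlgHom R B KB).range := fun z => by
    have hz : IsIntegral C0 (z : K0) := z.2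
    have hC0 : ∀ y : C0, v (y : K0) ∈ (IsScalarTower.toAlgHom R B KB).range := by
      rintro ⟨y, hy⟩
      have hle : C0 ≤ ((IsScalarTower.toAlgHom R B KB).range).comap v := Algebra.adjoin_le fun x hx => by
        show v x ∈ (IsScalarTower.toAlgHom R B KB).range
        have : v x ∈ (g.image ι : Set KB) := hv ▸ ⟨x, hx, rfl⟩
        obtain ⟨b, -, hb⟩ := Finset.mem_image.1 this
        exact ⟨b, hb⟩
      exact hle hy
    obtain ⟨P, hP, hPz⟩ := hz
    have hint : IsIntegral B (vC z) := by
      choose b hb using hC0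
      have hlift : P.map (v.toRingHom.comp (algebraMap C0 K0)) ∈ Polynomial.lifts ι :=
        (Polynomial.lifts_iff_coeff_lifts _).2 fun i => ⟨b (P.coeff i), by rw [Polynomial.coeff_map]; exact hb _⟩
      obtain ⟨P', hP', -, hP'm⟩ := Polynomial.lifts_and_natDegree_eq_and_monic hlift (hP.map _)
      refine ⟨P', hP'm, ?_⟩
      rw [← Polynomial.eval_map, show P'.map (algebraMap B KB) = _ from hP', Polynomial.eval_map,
        show vC z = v.toRingHom (z : K0) from rfl, ← Polynomial.hom_eval₂, hPz, map_zero]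
    obtain ⟨y, hy⟩ := IsIntegrallyClosed.isIntegral_iff.1 hint
    exact ⟨y, hy⟩
  let e := AlgEquiv.ofInjective (IsScalarTower.toAlgHom R B KB) (IsFractionRing.injective B KB)
  let j : C →ₐ[R] B := e.symm.toAlgHom.comp (vC.codRestrict _ hBR)
  have hj : ∀ z, ι (j z) = vC z := fun z => congrArg Subtype.val (e.apply_symm_apply _)
  have hjinj : Function.Injective j := fun x y h => by
    apply Subtype.ext
    apply Subtype.ext
    show vC x = vC y
    rw [← hj, ← hj, h]
  refine ⟨C ⊗[R] M, inferInstance, (Algebra.TensorProduct.map j (AlgHom.id R M)).toRingHom, ?_, ?_, ?_⟩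
  · exact Module.Flat.rTensor_preserves_injective_linearMap (M := M) j.toLinearMap hjinj
  · obtain ⟨h1, h2⟩ := hfield K0 ⟨gen, hgen⟩ ⟨v⟩
    exact isNormalRing_tensor_closure R M K0 gen hgen C hgC (fun z hz => hz) hred h1 h2
  · refine hGL.trans ?_
    intro x hx
    obtain ⟨w, rfl⟩ := hx
    have hLj : ∀ l : L, ∃ z : C, j z = (l : B) := by
      intro l
      suffices (L : Submodule R B) ≤ LinearMap.range j.toLinearMap from this l.2
      rw [← hg, Submodule.span_le]
      intro b hb
      let z : K0 := ⟨ι b, hmem _ (Finset.mem_image_of_mem _ hb)⟩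
      have hz : z ∈ C := hgC (Finset.mem_coe.2 (Finset.mem_subtype.2 (Finset.mem_image_of_mem _ hb)))
      exact ⟨⟨z, hz⟩, IsFractionRing.injective B KB (hj ⟨z, hz⟩)⟩
    show (L.subtype.rTensor M) w ∈ Set.range (Algebra.TensorProduct.map j (AlgHom.id R M))
    induction w using TensorProduct.induction_on with
    | zero => exact ⟨0, by simp⟩
    | tmul l m =>
      obtain ⟨z, hz⟩ := hLj l
      exact ⟨z ⊗ₜ m, by simp [hz]⟩
    | add a b ha hb =>
      obtain ⟨a', ha⟩ := ha
      obtain ⟨b', hb⟩ := hb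
      exact ⟨a' + b', by rw [map_add, map_add, ha, hb]⟩

/-- General case: any normal ring `B`. -/
theorem isNormalRing_tensor (B : Type u) [CommRing B] [Algebra R B] (hB : EGA4.IsNormalRing B)
    (hred : ∀ (F : Type u) [Field F] [Algebra R F], IsReduced (F ⊗[R] M))
    (hfield : ∀ (K : Type u) [Field K] [Algebra R K],
      (∃ gen : Finset K, Subfield.closure (Set.range (algebraMap R K) ∪ gen) = ⊤) →
      EGA4.IsNormalRing (K ⊗[R] M) ∧ (minimalPrimes (K ⊗[R] M)).Finite) :
    EGA4.IsNormalRing (B ⊗[R] M) := by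
  refine isNormalRing_tensor_of_localizations R B M fun P _ => ?_
  obtain ⟨h1, h2⟩ := hB P
  haveI := h1
  haveI := h2
  exact isNormalRing_tensor_domain R M (Localization.AtPrime P) hred fun K _ _ hg _ => hfield K hg

end Groth.Agent.NormTensor
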